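import Mathlib
import Groth.Prelude.Def_MoreMor
import Groth.Agent.Lib.Helper5.DRing.PCNoeth
import Groth.Agent.Lib.Helper1.TorL

/-!
# A flat morphism locally of finite type to a locally Noetherian scheme is perfect (helper5)
-/
set_option autoImplicit false
set_option linter.unusedSectionVars false
set_option linter.unusedVariables false
set_option linter.style.haveILetI false
universe u
open CategoryTheory CategoryTheory.Limits AlgebraicGeometry

namespace Groth.Agent.Lib.Helper5.FMPerf

theorem isPseudoCoherentHom_of_finiteType (A B : Type u) [CommRing A] [CommRing B] [Algebra A B]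
    [IsNoetherianRing A] [Algebra.FiniteType A B] : MoreMor.IsPseudoCoherentHom A B := by
  obtain ⟨n, φ, hφ⟩ := Algebra.FiniteType.iff_quotient_mvPolynomial''.1
    (inferInstance : Algebra.FiniteType A B)
  refine ⟨n, φ, hφ, ?_⟩
  letI := φ.toRingHom.toAlgebra
  haveI : IsNoetherianRing (MvPolynomial (Fin n) A) := inferInstance
  rw [Groth.Agent.Helper5.PCDev.pcModule_iff_noetherian]
  exact Module.Finite.of_surjective (Algebra.linearMap (MvPolynomial (Fin n) A) B) hφ

theorem hasFiniteTorDim_of_flat (A B : Type u) [CommRing A] [CommRing B] [Algebra A B]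
    [Module.Flat A B] : DRing.HasFiniteTorDim A B := by
  refine ⟨0, fun N _ _ p hp => ?_⟩
  obtain ⟨q, rfl⟩ : ∃ q, p = q + 1 := ⟨p - 1, by omega⟩
  haveI : Module.Flat A (ModuleCat.of A B) := inferInstanceAs (Module.Flat A B)
  exact ModuleCat.subsingleton_of_isZero
    (Groth.Agent.Helper1.TorL.isZero_tor_succ_of_flat (ModuleCat.of A B) (ModuleCat.of A N) q)

theorem isPerfectMor_of_flat {X Y : Scheme.{u}} [IsLocallyNoetherian Y] (f : X ⟶ Y) [Flat f]
    [LocallyOfFiniteType f] : MoreMor.IsPerfectMor f := by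
  intro U V hU hV hUV
  letI := (f.appLE V U hUV).hom.toAlgebra
  haveI : IsNoetherianRing Γ(Y, V) := IsLocallyNoetherian.component_noetherian ⟨V, hV⟩
  haveI : Algebra.FiniteType Γ(Y, V) Γ(X, U) := f.finiteType_appLE hV hU hUV
  haveI : Module.Flat Γ(Y, V) Γ(X, U) := f.flat_appLE hV hU hUV
  exact ⟨isPseudoCoherentHom_of_finiteType _ _, hasFiniteTorDim_of_flat _ _⟩

end Groth.Agent.Lib.Helper5.FMPerf
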