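import Mathlib
import Groth.Prelude.Def_DualFM
import Groth.Prelude.Def_SGA6
import Groth.Agent.Lib.Helper5.BC.FMComp
import Groth.Agent.Lib.Helper5.BC.LTenCongr
import Groth.Agent.Lib.Helper5.LTen.PerfTensor
import Groth.Agent.Lib.Helper5.Perf.LpullPerf
import Groth.Agent.Lib.Helper5.Perf.CountHomAff
import Groth.Agent.Lib.Helper5.RpushPerf.PerfMorPush
import Groth.Agent.Lib.Helper5.FMPerf.FlatPerfMor

/-!
# Convolution of perfect Fourier–Mukai kernels over a Noetherian base (helper5)
-/
set_option autoImplicit false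
set_option linter.unusedSectionVars false
set_option linter.unusedVariables false
set_option linter.style.haveILetI false
universe u
open CategoryTheory CategoryTheory.Limits AlgebraicGeometry
attribute [local instance] HasDerivedCategory.standard

namespace Groth.Agent.Lib.Helper5.FMPerf

open Groth.Agent.Lib.Helper5.BC Groth.Agent.Lib.Helper5.LpullLib

/-- **derived tensor product with a complex whose class is perfect preserves perfect objects** -/
theorem isPerfect_LTensor_of_isPerfect {X : Scheme.{u}} (L : CochainComplex X.Modules ℤ)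
    [DCoh.HasLTensorCx L] (hLp : DCoh.IsPerfect (DCoh.toD X L)) (K : DCoh.D X)
    (hK : DCoh.IsPerfect K) : DCoh.IsPerfect ((DCoh.LTensorCx L).obj K) := by
  obtain ⟨P, hP, ⟨eP⟩⟩ := exists_cell_repr (DCoh.toD X L)
  haveI : DCoh.HasLTensorCx P := Groth.Agent.Lib.Helper5.LTenAll.hasLTensorCx P
  obtain ⟨e⟩ := Groth.Agent.Lib.Helper5.LTenCongr.nonempty_ltensor_iso_of_iso (K := P) (K' := L) eP
  have h1 := Groth.Agent.Lib.Helper5.PerfTensor.isPerfect_LTensor P (kft_of_cell hP).1
    (Groth.Agent.Lib.Helper5.PerfTri.isPerfect_of_iso eP.symm hLp) K hK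
  exact Groth.Agent.Lib.Helper5.PerfTri.isPerfect_of_iso (e.app K) h1

variable {S X Y Z : Scheme.{u}} (a : X ⟶ S) (b : Y ⟶ S) (c : Z ⟶ S)

theorem isProper_p13 [IsProper b] : IsProper (FMK.p13 a b c) :=
  MorphismProperty.of_isPullback (P := @IsProper) (isPullback_p13_p12 a b c).flip inferInstance

/-- **the convolution of perfect kernels is perfect** (Noetherian base, proper flat families) -/
theorem isPerfect_conv [IsLocallyNoetherian S] [LocallyOfFiniteType a] [LocallyOfFiniteType c]
    [IsProper b] [Flat b] [Flat a]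
    (K : CochainComplex (pullback a b).Modules ℤ) (K' : CochainComplex (pullback b c).Modules ℤ)
    (hK : DCoh.IsPerfect (DCoh.toD _ K)) (hK' : DCoh.IsPerfect (DCoh.toD _ K'))
    [DCoh.HasLTensorCx ((FMK.cxPull (FMK.p23 a b c)).obj K')] :
    DCoh.IsPerfect (FMK.conv a b c K ((FMK.cxPull (FMK.p23 a b c)).obj K')) := by
  haveI : IsProper (FMK.p13 a b c) := isProper_p13 a b c
  haveI : Flat (FMK.p13 a b c) := flat_p13 a b c
  haveI : Flat (FMK.p23 a b c) := inferInstanceAs (Flat (pullback.snd _ _))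
  haveI : IsLocallyNoetherian (pullback a c) :=
    LocallyOfFiniteType.isLocallyNoetherian (pullback.fst a c ≫ a)
  have h1 : DCoh.IsPerfect ((DCoh.Lpull (FMK.p12 a b c)).obj (DCoh.toD _ K)) :=
    isPerfect_Lpull (FMK.p12 a b c) _ hK
  have h2 : DCoh.IsPerfect (DCoh.toD _ ((FMK.cxPull (FMK.p23 a b c)).obj K')) :=
    Groth.Agent.Lib.Helper5.PerfTri.isPerfect_of_iso (flatPullIso (FMK.p23 a b c) K')
      (isPerfect_Lpull (FMK.p23 a b c) _ hK')
  have h3 := isPerfect_LTensor_of_isPerfect _ h2 _ h1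
  exact Groth.Agent.Lib.Helper5.PerfMorTor.isPerfect_rpush_of_isPerfect_locNoeth (FMK.p13 a b c)
    (isPerfectMor_of_flat (FMK.p13 a b c)) _ h3

/-- restricting an isomorphism of functors on `D_QCoh` to the perfect objects -/
noncomputable def isoOnPerf {X' : Scheme.{u}} {D : Type*} [Category D] {F G : DCoh.D X' ⥤ D}
    (e : ObjectProperty.ι (DCoh.IsQCohD (X := X')) ⋙ F ≅
      ObjectProperty.ι (DCoh.IsQCohD (X := X')) ⋙ G) :
    ObjectProperty.ι (SGA6.perfP X') ⋙ F ≅ ObjectProperty.ι (SGA6.perfP X') ⋙ G :=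
  Functor.isoWhiskerLeft (ObjectProperty.ιOfLE (P := SGA6.perfP X') (P' := DCoh.IsQCohD (X := X'))
    (fun E hE => Groth.Agent.Lib.Helper5.CountHom.isQCohD_of_isPerfect E hE)) e

end Groth.Agent.Lib.Helper5.FMPerf
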